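import Mathlib

/-!
# Finite free direct images of structure sheaves: two algebraic lemmas
-/

universe u v

open CategoryTheory CategoryTheory.Limits AlgebraicGeometry TensorProduct

namespace Groth.Agent.H17.FreePush

/-- In a cocartesian square of rings, generators of one side span the corner over the other side. -/
theorem exists_sum_of_isPushout {R B A P : CommRingCat.{u}} {f : R ⟶ B} {g : R ⟶ A} {a : B ⟶ P} {b : A ⟶ P}
    (H : IsPushout f g a b) {ι : Type v} [Fintype ι] (w : ι → A)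
    (hw : ∀ x : A, ∃ r : ι → R, x = ∑ i, g (r i) * w i) (z : P) :
    ∃ c : ι → B, z = ∑ i, a (c i) * b (w i) := by
  letI : Algebra R B := f.hom.toAlgebra
  letI : Algebra R A := g.hom.toAlgebra
  have h' := CommRingCat.isPushout_tensorProduct R B A
  let e := H.isoIsPushout _ _ h'
  suffices h : ∀ t : B ⊗[R] A, ∃ c : ι → B, t = ∑ i, (c i) ⊗ₜ[R] (w i) by
    obtain ⟨c, hc⟩ := h (e.hom z)
    refine ⟨c, (ConcreteCategory.bijective_of_isIso e.hom).1 (hc.trans ?_)⟩
    rw [map_sum]
    refine Finset.sum_congr rfl fun i _ => ?_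
    rw [map_mul]
    have h1 : e.hom (a (c i)) = (c i) ⊗ₜ[R] (1 : A) := ConcreteCategory.congr_hom (H.inl_isoIsPushout_hom _ _ h') (c i)
    have h2 : e.hom (b (w i)) = (1 : B) ⊗ₜ[R] (w i) := ConcreteCategory.congr_hom (H.inr_isoIsPushout_hom _ _ h') (w i)
    rw [h1, h2]
    exact (show (c i) ⊗ₜ[R] (w i) = ((c i) ⊗ₜ[R] (1 : A)) * ((1 : B) ⊗ₜ[R] (w i)) by simp)
  intro t
  induction t using TensorProduct.induction_on with
  | zero => exact ⟨0, by simp⟩
  | tmul x y =>
    obtain ⟨r, rfl⟩ := hw y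
    refine ⟨fun i => x * f (r i), ?_⟩
    rw [TensorProduct.tmul_sum]
    refine Finset.sum_congr rfl fun i _ => ?_
    rw [show g (r i) * w i = r i • w i from rfl, TensorProduct.tmul_smul, TensorProduct.smul_tmul']
    exact congrArg (· ⊗ₜ[R] w i) (show r i • x = x * f (r i) from mul_comm _ _)
  | add s t hs ht =>
    obtain ⟨c, rfl⟩ := hs
    obtain ⟨c', rfl⟩ := ht
    exact ⟨c + c', by simp [TensorProduct.add_tmul, Finset.sum_add_distrib]⟩

/-- A morphism from a module is determined by a finite dual basis. -/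
theorem sum_desc_comp_ι {C : Type*} [Category C] [Preadditive C] {ι : Type*} [Fintype ι] [DecidableEq ι]
    (M : ι → C) [HasCoproduct M] (δ : ∀ i j, M i ⟶ M j) (h1 : ∀ i, δ i i = 𝟙 _)
    (h0 : ∀ i j, i ≠ j → δ i j = 0) :
    (∑ j, Sigma.desc (fun i => δ i j) ≫ Sigma.ι M j) = 𝟙 (∐ M) := by
  refine Sigma.hom_ext _ _ fun i => ?_
  rw [Preadditive.comp_sum, Finset.sum_eq_single i]
  · simp [h1]
  · intro j _ hj
    simp [h0 i j (Ne.symm hj)]
  · simp

end Groth.Agent.H17.FreePush
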