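import Groth.Agent.H17.FreePush.Basic

/-!
# A morphism with free direct image of the structure sheaf and no extra global functions
-/

universe u

open CategoryTheory CategoryTheory.Limits AlgebraicGeometry TopologicalSpace Opposite

namespace Groth.Agent.H17.FreePush

variable {P F : Scheme.{u}} (f : F ⟶ P)

/-- Sections as a homomorphism in the morphism. -/
noncomputable def appHom {M N : P.Modules} (U : P.Opens) (x : Γ(M, U)) : (M ⟶ N) →+ Γ(N, U) where
  toFun φ := φ.app U x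
  map_zero' := rfl
  map_add' _ _ := rfl

theorem exists_basis {ι : Type u} [Fintype ι] (e : (Scheme.Modules.pushforward f).obj (SheafOfModules.unit F.ringCatSheaf) ≅
      ∐ fun _ : ι => (SheafOfModules.unit P.ringCatSheaf : P.Modules)) :
    ∃ b : ι → Γ(F, ⊤), ∀ U : P.Opens, Function.Bijective
      (fun c : ι → Γ(P, U) => ∑ i, f.app U (c i) * F.presheaf.map (homOfLE (le_top (a := f ⁻¹ᵁ U))).op (b i)) := by
  classical
  let M : ι → P.Modules := fun _ => SheafOfModules.unit P.ringCatSheaf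
  let N : P.Modules := (Scheme.Modules.pushforward f).obj (SheafOfModules.unit F.ringCatSheaf)
  let δ : ∀ i j, M i ⟶ M j := fun i j => if i = j then 𝟙 (SheafOfModules.unit P.ringCatSheaf : P.Modules) else 0
  let ψ : ∀ i, M i ⟶ N := fun i => Sigma.ι M i ≫ e.inv
  let p : ∀ j, N ⟶ M j := fun j => e.hom ≫ Sigma.desc (fun i => δ i j)
  have hψp : ∀ i j, ψ i ≫ p j = δ i j := fun i j => by
    change (Sigma.ι M i ≫ e.inv) ≫ e.hom ≫ Sigma.desc (fun i => δ i j) = δ i j
    rw [Category.assoc, Iso.inv_hom_id_assoc]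
    exact colimit.ι_desc _ _
  have hsum : ∑ j, p j ≫ ψ j = 𝟙 N := by
    calc ∑ j, p j ≫ ψ j = ∑ j, e.hom ≫ (Sigma.desc (fun i => δ i j) ≫ Sigma.ι M j) ≫ e.inv := by
          simp [p, ψ]
      _ = e.hom ≫ (∑ j, Sigma.desc (fun i => δ i j) ≫ Sigma.ι M j) ≫ e.inv := by
          rw [Preadditive.sum_comp, Preadditive.comp_sum]
      _ = 𝟙 N := by
          rw [sum_desc_comp_ι M δ (fun i => if_pos rfl) (fun i j h => if_neg h)]
          erw [Category.id_comp, e.hom_inv_id]
  refine ⟨fun i => (ψ i).app ⊤ (1 : Γ(P, ⊤)), fun U => ?_⟩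
  have key : ∀ (i : ι) (c : Γ(P, U)), (ψ i).app U c =
      (f.app U c * F.presheaf.map (homOfLE (le_top (a := f ⁻¹ᵁ U))).op ((ψ i).app ⊤ (1 : Γ(P, ⊤))) : Γ(F, f ⁻¹ᵁ U)) := fun i c => by
    have h1 : (ψ i).app U (c • ((1 : Γ(P, U)) : Γ(M i, U))) = c • (ψ i).app U (1 : Γ(P, U)) := (ψ i).app_smul c _
    have h2 : (ψ i).app U ((M i).presheaf.map (homOfLE (le_top (a := U))).op ((1 : Γ(P, ⊤)) : Γ(M i, ⊤))) =
        N.presheaf.map (homOfLE (le_top (a := U))).op ((ψ i).app ⊤ (1 : Γ(P, ⊤))) :=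
      ConcreteCategory.congr_hom ((ψ i).mapPresheaf.naturality (homOfLE (le_top (a := U))).op) (1 : Γ(P, ⊤))
    have h3 : (M i).presheaf.map (homOfLE (le_top (a := U))).op ((1 : Γ(P, ⊤)) : Γ(M i, ⊤)) = ((1 : Γ(P, U)) : Γ(M i, U)) :=
      map_one (P.presheaf.map (homOfLE (le_top (a := U))).op).hom
    rw [h3] at h2
    rw [h2] at h1
    refine Eq.trans ?_ (h1.trans ?_)
    · exact congrArg (fun x => (ψ i).app U x) (mul_one c).symm
    · rfl
  have hsum' : ∀ y : Γ(N, U), ∑ j, (ψ j).app U ((p j).app U y) = y := fun y => by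
    have h := congrArg (appHom U y) hsum
    rw [map_sum] at h
    exact h
  have hδ : ∀ (c : ι → Γ(P, U)) j, (p j).app U (∑ i, (ψ i).app U (c i)) = c j := fun c j => by
    rw [map_sum, Finset.sum_eq_single j]
    · have h := congrArg (fun φ => appHom (M := M j) U (c j) φ) (hψp j j)
      refine h.trans ?_
      change appHom (M := M j) U (c j) (δ j j) = c j
      rw [show δ j j = 𝟙 _ from if_pos rfl]
      rfl
    · intro i _ hi
      have h := congrArg (fun φ => appHom (M := M i) U (c i) φ) (hψp i j)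
      refine h.trans ?_
      change appHom (M := M i) U (c i) (δ i j) = 0
      rw [show δ i j = 0 from if_neg hi]
      rfl
    · simp
  refine ⟨fun c c' h => funext fun j => ?_, fun y => ⟨fun j => (p j).app U y, ?_⟩⟩
  · have h' : (∑ i, (ψ i).app U (c i)) = ∑ i, (ψ i).app U (c' i) := by simp only [key]; exact h
    rw [← hδ c j, h', hδ c' j]
  · refine Eq.trans ?_ (hsum' y)
    simp only [key]
    rfl

theorem isIso_lift_of_basis {T S : Scheme.{u}} {t : P ⟶ S} {g : T ⟶ S} (q : F ⟶ T) (w : f ≫ t = q ≫ g)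
    [IsAffineHom f] [IsAffine S] [IsAffine T] {ι : Type u} [Fintype ι] (v : ι → Γ(T, ⊤))
    (hv : ∀ x : Γ(T, ⊤), ∃ r : ι → Γ(S, ⊤), x = ∑ i, g.appTop (r i) * v i)
    (hb : ∀ U : P.Opens, Function.Bijective
      (fun c : ι → Γ(P, U) => ∑ i, f.app U (c i) * F.presheaf.map (homOfLE (le_top (a := f ⁻¹ᵁ U))).op (q.appTop (v i)))) :
    IsIso (pullback.lift f q w) := by
  have hθ : pullback.lift f q w ≫ pullback.fst t g = f := pullback.lift_fst _ _ _
  have hθ' : pullback.lift f q w ≫ pullback.snd t g = q := pullback.lift_snd _ _ _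
  generalize pullback.lift f q w = θ at hθ hθ'
  have : IsAffineHom g := inferInstance
  have : IsAffineHom (pullback.fst t g) := MorphismProperty.pullback_fst t g inferInstance
  haveI : IsAffineHom (θ ≫ pullback.fst t g) := by rw [hθ]; infer_instance
  haveI : IsAffineHom θ := IsAffineHom.of_comp θ (pullback.fst t g)
  change MorphismProperty.isomorphisms Scheme.{u} θ
  have hcov : ⨆ U : P.affineOpens, (pullback.fst t g) ⁻¹ᵁ (U : P.Opens) = ⊤ := by
    rw [← Scheme.Hom.preimage_iSup, iSup_affineOpens_eq_top, Scheme.Hom.preimage_top]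
  rw [IsZariskiLocalAtTarget.iff_of_iSup_eq_top (P := MorphismProperty.isomorphisms Scheme.{u}) _ hcov]
  rintro ⟨U, hU⟩
  have hW : IsAffineOpen ((pullback.fst t g) ⁻¹ᵁ U) := hU.preimage _
  change IsIso (θ ∣_ ((pullback.fst t g) ⁻¹ᵁ U))
  rw [isIso_morphismRestrict_iff_isIso_app _ hW, Scheme.Hom.app_eq_appLE]
  suffices h : ∀ (V : F.Opens) (e : V ≤ θ ⁻¹ᵁ ((pullback.fst t g) ⁻¹ᵁ U)) (_ : V = f ⁻¹ᵁ U),
      IsIso (θ.appLE _ V e) from h _ _ (by rw [← Scheme.Hom.comp_preimage, hθ])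
  intro V e hV
  subst hV
  have H : IsPullback (pullback.fst t g) (pullback.snd t g) t g := IsPullback.of_hasPullback t g
  have hpush := (isIso_pushoutSection_iff H (US := ⊤) (UT := ⊤) (UX := U) le_top le_top
    (UY := (pullback.fst t g) ⁻¹ᵁ U) (by simp)).mp
    (isIso_pushoutSection_of_isAffineOpen H le_top le_top (by simp) (isAffineOpen_top _) (isAffineOpen_top _) hU)
  have hgen := exists_sum_of_isPushout hpush v (fun x => by
    obtain ⟨r, hr⟩ := hv x
    refine ⟨r, ?_⟩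
    refine hr.trans (Finset.sum_congr rfl fun i _ => ?_)
    rw [show g.appLE ⊤ ⊤ (le_top (a := (⊤ : T.Opens))) = g.appTop from (Scheme.Hom.app_eq_appLE g).symm])
  have hl : ∀ c : Γ(P, U), θ.appLE _ (f ⁻¹ᵁ U) e ((pullback.fst t g).appLE U _ le_rfl c) = f.app U c := fun c => by
    rw [← CommRingCat.comp_apply, Scheme.Hom.appLE_comp_appLE]
    simp only [hθ, Scheme.Hom.app_eq_appLE]
  have hr : ∀ (x : Γ(T, ⊤)) (e'), θ.appLE _ (f ⁻¹ᵁ U) e ((pullback.snd t g).appLE ⊤ _ e' x) =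
      F.presheaf.map (homOfLE (le_top (a := f ⁻¹ᵁ U))).op (q.appTop x) := fun x e' => by
    rw [← CommRingCat.comp_apply, Scheme.Hom.appLE_comp_appLE]
    simp only [hθ']
    rfl
  rw [ConcreteCategory.isIso_iff_bijective]
  have key : ∀ z, ∃ c : ι → Γ(P, U), θ.appLE _ (f ⁻¹ᵁ U) e z =
      ∑ i, f.app U (c i) * F.presheaf.map (homOfLE (le_top (a := f ⁻¹ᵁ U))).op (q.appTop (v i)) ∧
      z = ∑ i, (pullback.fst t g).appLE U _ le_rfl (c i) * (pullback.snd t g).appLE ⊤ _ (by simp) (v i) := fun z => by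
    obtain ⟨c, hc⟩ := hgen z
    refine ⟨c, ?_, hc⟩
    rw [hc, map_sum]
    exact Finset.sum_congr rfl fun i _ => by rw [map_mul, hl, hr]
  refine ⟨fun z z' h => ?_, fun y => ?_⟩
  · obtain ⟨c, hc1, hc2⟩ := key z
    obtain ⟨c', hc1', hc2'⟩ := key z'
    have : c = c' := (hb U).1 (hc1.symm.trans (h.trans hc1'))
    rw [hc2, hc2', this]
  · obtain ⟨c, hc⟩ := (hb U).2 y
    refine ⟨∑ i, (pullback.fst t g).appLE U _ le_rfl (c i) * (pullback.snd t g).appLE ⊤ _ (by simp) (v i), ?_⟩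
    rw [map_sum, ← hc]
    exact Finset.sum_congr rfl fun i _ => by rw [map_mul, hl, hr]

end Groth.Agent.H17.FreePush
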